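import Cfsg.Agent.H162.CC.Tools3

/-!
# Commutator closed sets (S3828): rows from embedded simple groups (helper990)
-/

set_option autoImplicit false

namespace Cfsg.Agent.H990.CCG

open Subgroup Cfsg Cfsg.Agent.Lib.Cores Cfsg.Agent.H162.CCR

variable {p : ℕ} [hp : Fact p.Prime]

/-- primes not dividing the order -/
theorem crow_of_not_dvd {G : Type*} [Group G] [Finite G] (h : ¬ p ∣ Nat.card G) : CRow p G := by
  intro C hC c hc
  obtain ⟨k, hk⟩ := hC.pel c hc
  by_contra hc1
  have hk0 : k ≠ 0 := by
    rintro rfl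
    rw [pow_zero, orderOf_eq_one_iff] at hk
    exact hc1 hk
  exact h ((dvd_pow_self p hk0).trans (hk ▸ orderOf_dvd_natCard c))

/-- a proper simple subgroup of index prime to `p`, given by an injection -/
theorem crow_of_hom {K H : Type*} [Group K] [Finite K] [Group H] [Finite H]
    [hs : IsSimpleGroup H] (hna : ¬ IsMulCommutative H) (f : H →* K) (hf : Function.Injective f)
    (hlt : Nat.card H < Nat.card K) (hi : ¬ p ∣ Nat.card K / Nat.card H) : CRow p K := by
  have hc : Nat.card f.range = Nat.card H := (Nat.card_congr (MonoidHom.ofInjective hf).toEquiv).symm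
  have hO : pCore p f.range = ⊥ := by
    rw [eq_bot_iff]
    intro x hx
    have h1 := pCore_of_equiv (MonoidHom.ofInjective hf).symm hx
    rw [pCore_eq_bot_of_simple hna p, mem_bot] at h1
    rw [mem_bot]
    exact (MonoidHom.ofInjective hf).symm.injective (h1.trans (map_one _).symm)
  have hne : f.range ≠ ⊤ := by
    intro h1
    rw [h1, Subgroup.card_top] at hc
    omega
  have hix : ¬ p ∣ f.range.index := by
    have h := f.range.card_mul_index
    rw [hc] at h
    rw [← h, Nat.mul_div_cancel_left _ Nat.card_pos] at hi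
    exact hi
  intro C hC
  exact hC.eq_one_of_index hne hix hO

/-- a group whose order is not a prime is not simple and commutative -/
theorem not_comm_of_card {H : Type*} [Group H] [Finite H] [hs : IsSimpleGroup H] (hc : ¬ (Nat.card H).Prime) :
    ¬ IsMulCommutative H := by
  intro h
  exact hc (by
    letI : CommGroup H := { (inferInstance : Group H) with mul_comm := h.1.1 }
    exact IsSimpleGroup.prime_card)

end Cfsg.Agent.H990.CCG

namespace Cfsg.Agent.H990.CCG

open Subgroup Cfsg Cfsg.Agent.Lib.Cores Cfsg.Agent.H162.CCR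

section Four

variable {G : Type*} [Group G] [Finite G] {C : Set G}

/-- A normal `p`-subgroup of an overgroup of a Sylow subgroup lies in the Sylow subgroup. -/
theorem le_sylow_of_normalizes {p : ℕ} [hp : Fact p.Prime] (P : Sylow p G) {A : Subgroup G} (hA : IsPGroup p A)
    (hn : (P : Subgroup G) ≤ normalizer (A : Set G)) : A ≤ (P : Subgroup G) := by
  have h1 : IsPGroup p ((P : Subgroup G) ⊔ A : Subgroup G) := P.2.to_sup_of_normal_right' hA hn
  have h2 := P.3 h1 le_sup_left
  rw [← h2]
  exact le_sup_right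

/-- **The centralizer `C(z)` whose abelian normal 2-subgroups lie in `⟨u⟩`, `u² = z`.** -/
theorem crow_two_of_four (hO : pCore 2 G = ⊥) (hZ : center G = ⊥) {z u : G} (zz : z * z = 1) (z1 : z ≠ 1)
    (uu : u * u = z) (hodd : ¬ 2 ∣ (centralizer ({z} : Set G)).index)
    (hA : ∀ A : Subgroup G, A ≤ centralizer ({z} : Set G) → centralizer ({z} : Set G) ≤ normalizer (A : Set G) →
      IsPGroup 2 A → (∀ x ∈ A, ∀ y ∈ A, x * y = y * x) → ∀ x ∈ A, x = 1 ∨ x = z ∨ x = u ∨ x = u⁻¹)
    {x : G} (hx1 : x ≠ 1) (hxu : x * u = u * x)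
    (hcard : ¬ Nat.card (centralizer ({x} : Set G)) ∣ Nat.card (centralizer ({z} : Set G))) : CRow 2 G := by
  have h2 : Fact (Nat.Prime 2) := ⟨Nat.prime_two⟩
  intro C h c hc
  by_contra hc1
  have hH : centralizer ({z} : Set G) ≠ ⊤ := by
    intro h2
    apply z1
    have h3 : z ∈ center G := by
      rw [mem_center_iff]
      intro g
      have h4 : g ∈ centralizer ({z} : Set G) := by rw [h2]; trivial
      exact mem_centralizer_singleton_iff.1 h4
    rw [hZ] at h3
    simpa using h3
  obtain ⟨P, hPH⟩ := exists_sylow_le (p := 2) hodd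
  have hHM := h.sylow_le_M hO hc hc1 P hH hPH
  have hM := h.M_ne_top' hO hc hc1 P
  have hMi : ¬ 2 ∣ (M C (P : Subgroup G)).index := fun hd => hodd (hd.trans (index_dvd_of_le hHM))
  obtain ⟨A, -, hAn, hAp, hAc, e, he, he1, heA⟩ := h.exists_abelian hO hc hc1 hM hMi
  have hAP : A ≤ (P : Subgroup G) := le_sylow_of_normalizes P hAp ((h.P_le_M P).trans hAn)
  have key := hA A (hAP.trans hPH) (hHM.trans hAn) hAp hAc
  -- `M` centralizes `z`
  have hee : ∀ a ∈ A, a * a ≠ 1 → a * a = z := by
    intro a ha h1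
    rcases key a ha with rfl | rfl | rfl | rfl
    · exact absurd (mul_one _) h1
    · exact absurd zz h1
    · exact uu
    · rw [← mul_inv_rev, uu]
      exact inv_eq_of_mul_eq_one_left zz
  have he2 : e * e ≠ 1 := fun h1 => he1 (h.sq_ne_one hO he h1)
  have hMz : M C (P : Subgroup G) ≤ centralizer ({z} : Set G) := by
    intro g hg
    have h3 : g * e * g⁻¹ ∈ A := (mem_normalizer_iff.1 (hAn hg) e).1 heA
    have h4 : g * e * g⁻¹ * (g * e * g⁻¹) = g * (e * e) * g⁻¹ := by group
    have h5 : g * (e * e) * g⁻¹ = z := by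
      rw [← h4]
      apply hee _ h3
      rw [h4]
      intro h5
      apply he2
      have h6 : e * e = g⁻¹ * (g * (e * e) * g⁻¹) * g := by group
      rw [h6, h5]; group
    rw [hee e heA he2] at h5
    rw [mem_centralizer_singleton_iff]
    exact mul_inv_eq_iff_eq_mul.1 h5
  -- `x` commutes with `e`
  have hex : e * x = x * e := by
    rcases key e heA with h1 | h1 | h1 | h1
    · exact absurd h1 he1
    · exact absurd (h1 ▸ zz) he2
    · rw [h1]; exact hxu.symm
    · rw [h1]
      have : Commute x u := hxu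
      exact this.inv_right.symm
  obtain ⟨-, h6, -⟩ := h.centralizer_of_comm hO hZ he he1 hx1 hex (hAP heA)
  exact hcard (card_dvd_of_le (h6.trans hMz))

end Four

end Cfsg.Agent.H990.CCG

namespace Cfsg.Agent.H990.CCG

/-- peel off one prime power -/
theorem eq_or_dvd {p a k m : ℕ} (hp : p.Prime) (ha : a.Prime) (h : p ∣ a ^ k * m) : p = a ∨ p ∣ m := by
  rcases (hp.dvd_mul).1 h with h | h
  · exact Or.inl ((Nat.prime_dvd_prime_iff_eq hp ha).1 (hp.dvd_of_dvd_pow h))
  · exact Or.inr h

end Cfsg.Agent.H990.CCG
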